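import Mathlib
import Groth.Prelude.Def_Curv2
import Groth.Agent.Lib.Helper7.FieldBC
import Groth.Agent.Lib.Helper3.FibStalk2
import Groth.Agent.Lib.Helper4.FibreStalkDim1

set_option linter.style.haveILetI false
set_option linter.unusedVariables false
set_option linter.unusedSectionVars false
set_option autoImplicit false
set_option backward.isDefEq.respectTransparency.types false
set_option synthInstance.maxHeartbeats 400000
set_option maxHeartbeats 800000

universe u

/-! helper7: fibre of the field base change X_K -> X over x is Spec(k(x) tensor K); S7627 (m_x O_{X_K,y} = m_y when dims agree and k(x) tensor K reduced) -/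

open AlgebraicGeometry CategoryTheory CategoryTheory.Limits TopologicalSpace Opposite TensorProduct

namespace Groth.Agent.Helper7.FibBC

attribute [local instance] Curv2.resAlgebra

theorem fromSpecResidueField_spec (R : CommRingCat.{u}) (s : Spec R) :
    (Spec R).fromSpecResidueField s =
      Spec.map ((Scheme.ΓSpecIso R).inv ≫ (Spec R).Γevaluation s) := by
  rw [← Scheme.Spec.map_residueFieldIso_inv_eq_fromSpecResidueField, ← Spec.map_comp,
    Scheme.Spec.algebraMap_residueFieldIso_inv]
  rfl

theorem fromSpecResidueField_over (k : Type u) [Field k] (X : Scheme.{u})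
    [X.Over (Spec (CommRingCat.of k))] (x : X) :
    X.fromSpecResidueField x ≫ (X ↘ Spec (CommRingCat.of k)) =
      Spec.map (CommRingCat.ofHom (algebraMap k (X.residueField x))) := by
  rw [← Scheme.Hom.SpecMap_residueFieldMap_fromSpecResidueField, fromSpecResidueField_spec,
    ← Spec.map_comp]
  congr 1
  ext a
  have := Groth.Agent.Helper7.FieldBC.resMap_eq k X x
  exact (congrArg (fun φ => φ a) this).symm

theorem isReduced_fiber (k : Type u) [Field k] (X : Scheme.{u})
    [X.Over (Spec (CommRingCat.of k))] (K : Type u) [Field K] [Algebra k K] (x : X)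
    (hred : _root_.IsReduced (X.residueField x ⊗[k] K)) :
    IsReduced ((Curv2.bcFst k X K).fiber x) := by
  let e : (Curv2.bcFst k X K).fiber x ≅
      pullback (X.fromSpecResidueField x ≫ (X ↘ Spec (CommRingCat.of k)))
        (Spec.map (CommRingCat.ofHom (algebraMap k K))) :=
    pullbackSymmetry _ _ ≪≫
      pullbackRightPullbackFstIso (X ↘ Spec (CommRingCat.of k))
        (Spec.map (CommRingCat.ofHom (algebraMap k K))) (X.fromSpecResidueField x)
  let e2 : pullback (X.fromSpecResidueField x ≫ (X ↘ Spec (CommRingCat.of k)))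
        (Spec.map (CommRingCat.ofHom (algebraMap k K))) ≅
      Spec (CommRingCat.of (X.residueField x ⊗[k] K)) :=
    pullback.congrHom (fromSpecResidueField_over k X x) rfl ≪≫
      pullbackSpecIso k (X.residueField x) K
  haveI : IsReduced (Spec (CommRingCat.of (X.residueField x ⊗[k] K))) := by
    rw [affine_isReduced_iff]
    exact hred
  exact isReduced_of_isOpenImmersion (e ≪≫ e2).hom

theorem eq_zero_of_self_eq_add (a d : WithBot ℕ∞) (ha : a ≠ ⊥) (ha' : a ≠ ⊤) (h : a = a + d) :
    d = 0 := by
  induction a using WithBot.recBotCoe with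
  | bot => exact absurd rfl ha
  | coe a =>
    induction d using WithBot.recBotCoe with
    | bot => simp at h
    | coe d =>
      have ha'' : a ≠ ⊤ := fun e => ha' (by rw [e]; rfl)
      rw [← WithBot.coe_add, WithBot.coe_inj] at h
      lift a to ℕ using ha''
      have : d = 0 := by
        cases d with
        | top => simp at h
        | coe d =>
          have h' : (a : ℕ∞) = ((a + d : ℕ) : ℕ∞) := by rw [h]; push_cast; rfl
          have := ENat.natCast_inj.mp h'
          have : d = 0 := by omega
          rw [this]; rfl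
      rw [this]; rfl

theorem S7627_main (k : Type u) [Field k] (X : Scheme.{u}) [X.Over (Spec (CommRingCat.of k))]
    [LocallyOfFiniteType (X ↘ (Spec (CommRingCat.of k)))]
    (K : Type u) [Field K] [Algebra k K] (y : ↥(Curv2.bc k X K))
    (hdim : ringKrullDim ↥(X.presheaf.stalk (Curv2.bcFst k X K y)) =
      ringKrullDim ↥((Curv2.bc k X K).presheaf.stalk y))
    (hred : _root_.IsReduced (X.residueField (Curv2.bcFst k X K y) ⊗[k] K)) :
    Ideal.map ((Curv2.bcFst k X K).stalkMap y).hom
        (IsLocalRing.maximalIdeal ↥(X.presheaf.stalk (Curv2.bcFst k X K y))) =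
      IsLocalRing.maximalIdeal ↥((Curv2.bc k X K).presheaf.stalk y) := by
  haveI : IsLocallyNoetherian X :=
    LocallyOfFiniteType.isLocallyNoetherian (X ↘ Spec (CommRingCat.of k))
  haveI : LocallyOfFiniteType (Curv2.bcSnd k X K) := inferInstance
  haveI : IsLocallyNoetherian (Curv2.bc k X K) :=
    LocallyOfFiniteType.isLocallyNoetherian (Curv2.bcSnd k X K)
  have hfl : ((Curv2.bcFst k X K).stalkMap y).hom.Flat := Flat.stalkMap (Curv2.bcFst k X K) y
  have hd := Groth.Agent.Lib.Helper4.FibreStalkDim1.dim_eq_of_local_flat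
    ((Curv2.bcFst k X K).stalkMap y).hom hfl
  obtain ⟨γ, hγ, hk⟩ := Groth.Agent.Helper3.FibStalk.exists_fibre_presentation
    (Curv2.bcFst k X K) y
  haveI : IsReduced ((Curv2.bcFst k X K).fiber (Curv2.bcFst k X K y)) :=
    isReduced_fiber k X K _ hred
  have e := (Ideal.quotEquivOfEq hk.symm).trans (RingHom.quotientKerEquivOfSurjective hγ)
  have hd0 : ringKrullDim (((Curv2.bcFst k X K).fiber (Curv2.bcFst k X K y)).presheaf.stalk
      ((Curv2.bcFst k X K).asFiber y)) = 0 := by
    rw [← ringKrullDim_eq_of_ringEquiv e]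
    refine eq_zero_of_self_eq_add (ringKrullDim ↥(X.presheaf.stalk (Curv2.bcFst k X K y))) _
      ringKrullDim_ne_bot ringKrullDim_ne_top ?_
    rw [← hd, hdim]
  haveI : Ring.KrullDimLE 0 (((Curv2.bcFst k X K).fiber (Curv2.bcFst k X K y)).presheaf.stalk
      ((Curv2.bcFst k X K).asFiber y)) := Ring.krullDimLE_iff.mpr hd0.le
  have hF : IsField (((Curv2.bcFst k X K).fiber (Curv2.bcFst k X K y)).presheaf.stalk
      ((Curv2.bcFst k X K).asFiber y)) := Ring.KrullDimLE.isField_of_isReduced
  letI := hF.toField
  have hmax : (RingHom.ker γ).IsMaximal := RingHom.ker_isMaximal_of_surjective γ hγ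
  rw [hk] at hmax
  exact IsLocalRing.eq_maximalIdeal hmax

end Groth.Agent.Helper7.FibBC
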